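import Groth.Agent.GorLib.Socle
import Mathlib.Algebra.Module.Injective
import Mathlib.RingTheory.Artinian.Ring

/-!
# A finite algebra with a non-degenerate functional is Gorenstein
-/

set_option autoImplicit false

universe u

namespace SectGorLib

variable {κ : Type u} [Field κ] {B : Type u} [CommRing B] [Algebra κ B] [Module.Finite κ B]

theorem baer_of_nondegenerate (l : B →ₗ[κ] κ) (hl : ∀ x : B, (∀ y, l (x * y) = 0) → x = 0) :
    Module.Baer B B := by
  intro I φ
  -- the functional `b ↦ l (b * ·)` is bijective onto the dual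
  let D : B →ₗ[κ] Module.Dual κ B :=
    { toFun := fun b => l.comp (LinearMap.mulLeft κ b)
      map_add' := fun a b => by ext y; simp [add_mul]
      map_smul' := fun c b => by ext y; simp }
  have hD : Function.Injective D := by
    rw [injective_iff_map_eq_zero]
    exact fun b hb => hl b fun y => LinearMap.congr_fun hb y
  have hD' : Function.Surjective D :=
    (LinearMap.injective_iff_surjective_of_finrank_eq_finrank Subspace.dual_finrank_eq.symm).1 hD
  obtain ⟨h, hh⟩ := LinearMap.exists_extend (p := I.restrictScalars κ)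
    (l.comp (φ.restrictScalars κ : I →ₗ[κ] B))
  obtain ⟨b, hb⟩ := hD' h
  refine ⟨LinearMap.toSpanSingleton B B b, fun x hx => ?_⟩
  show x * b = φ ⟨x, hx⟩
  refine sub_eq_zero.1 (hl _ fun y => ?_)
  have h1 : h (y * x) = l (φ ⟨y * x, I.mul_mem_left y hx⟩) :=
    LinearMap.congr_fun hh ⟨y * x, I.mul_mem_left y hx⟩
  rw [← hb] at h1
  have h2 : φ ⟨y * x, I.mul_mem_left y hx⟩ = y * φ ⟨x, hx⟩ := φ.map_smul y ⟨x, hx⟩
  rw [h2] at h1
  change l (b * (y * x)) = _ at h1
  rw [sub_mul, map_sub, show x * b * y = b * (y * x) by ring, show φ ⟨x, hx⟩ * y = y * φ ⟨x, hx⟩ by ring,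
    h1, sub_self]

theorem baer_localization_of_surjective {B S : Type u} [CommRing B] [IsNoetherianRing B] [CommRing S]
    [Algebra B S] (M : Submonoid B) [IsLocalization M S] (hπ : Function.Surjective (algebraMap B S))
    (h : Module.Baer B B) : Module.Baer S S := by
  classical
  -- an element killing the kernel
  obtain ⟨e, he1, he0⟩ : ∃ e : B, algebraMap B S e = 1 ∧ ∀ x, algebraMap B S x = 0 → e * x = 0 := by
    obtain ⟨t, ht⟩ := IsNoetherian.noetherian (RingHom.ker (algebraMap B S))
    have : ∀ x : B, algebraMap B S x = 0 → ∃ m : M, (m : B) * x = 0 := fun x hx =>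
      (IsLocalization.map_eq_zero_iff M S x).1 hx
    have hs : ∃ s : M, ∀ x ∈ t, (s : B) * x = 0 := by
      have hmem : ∀ x ∈ t, algebraMap B S x = 0 := fun x hx =>
        RingHom.mem_ker.1 (ht ▸ Submodule.subset_span hx)
      choose m hm using this
      refine ⟨∏ x ∈ t.attach, m x.1 (hmem _ x.2), fun x hx => ?_⟩
      obtain ⟨c, hc⟩ := Finset.dvd_prod_of_mem (fun y : t => m y.1 (hmem _ y.2)) (t.mem_attach ⟨x, hx⟩)
      rw [hc, Submonoid.coe_mul, mul_assoc, mul_comm (c : B), ← mul_assoc, hm x (hmem _ hx), zero_mul]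
    obtain ⟨s, hs⟩ := hs
    obtain ⟨c, hc⟩ := hπ (IsLocalization.map_units S s).unit⁻¹.1
    refine ⟨c * s, by rw [map_mul, hc, IsUnit.val_inv_mul], fun x hx => ?_⟩
    have hx' : x ∈ Submodule.span B (t : Set B) := ht ▸ RingHom.mem_ker.2 hx
    clear hx
    induction hx' using Submodule.span_induction with
    | mem y hy => rw [mul_assoc, hs y hy, mul_zero]
    | zero => rw [mul_zero]
    | add y z _ _ hy hz => rw [mul_add, hy, hz, add_zero]
    | smul a y _ hy => rw [smul_eq_mul, mul_left_comm, hy, mul_zero]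
  let σ : S → B := fun s => e * Function.surjInv hπ s
  have hσ : ∀ x, σ (algebraMap B S x) = e * x := fun x => by
    refine sub_eq_zero.1 ?_
    show e * _ - e * x = 0
    rw [← mul_sub]
    exact he0 _ (by rw [map_sub, Function.surjInv_eq hπ, sub_self])
  have hπσ : ∀ s, algebraMap B S (σ s) = s := fun s => by
    show algebraMap B S (e * _) = s
    rw [map_mul, he1, one_mul, Function.surjInv_eq hπ]
  intro I φ
  let J : Ideal B := I.comap (algebraMap B S)
  let ψ : J →ₗ[B] B :=
    { toFun := fun x => σ (φ ⟨algebraMap B S x, x.2⟩)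
      map_add' := fun x y => by
        obtain ⟨a, ha⟩ := hπ (φ ⟨algebraMap B S x, x.2⟩)
        obtain ⟨b, hb⟩ := hπ (φ ⟨algebraMap B S y, y.2⟩)
        rw [← ha, ← hb, hσ, hσ, ← mul_add, ← hσ, map_add, ha, hb, ← map_add]
        exact congrArg (fun z => σ (φ z)) (Subtype.ext (map_add _ _ _))
      map_smul' := fun c x => by
        obtain ⟨a, ha⟩ := hπ (φ ⟨algebraMap B S x, x.2⟩)
        rw [RingHom.id_apply, ← ha, hσ, smul_eq_mul, mul_left_comm, ← hσ, map_mul, ha, ← smul_eq_mul,
          ← map_smul]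
        exact congrArg (fun z => σ (φ z)) (Subtype.ext (map_mul _ _ _)) }
  obtain ⟨g, hg⟩ := h J ψ
  refine ⟨LinearMap.toSpanSingleton S S (algebraMap B S (g 1)), fun y hy => ?_⟩
  obtain ⟨x, rfl⟩ := hπ y
  show algebraMap B S x * algebraMap B S (g 1) = _
  rw [← map_mul, ← smul_eq_mul, ← map_smul, smul_eq_mul, mul_one, hg x hy]
  exact hπσ _

theorem gorensteinRing_of_nondegenerate (l : B →ₗ[κ] κ) (hl : ∀ x : B, (∀ y, l (x * y) = 0) → x = 0) :
    LocCoh.IsGorensteinRing B := by
  haveI : IsArtinianRing B := isArtinian_of_tower κ inferInstance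
  refine { isGorensteinLocalRing_localization := fun p _ => ?_ }
  haveI : IsNoetherianRing (Localization.AtPrime p) :=
    IsLocalization.isNoetherianRing p.primeCompl _ inferInstance
  exact GorLib.gorenstein_of_idlt (GorLib.idlt_one_iff.2
    (baer_localization_of_surjective p.primeCompl
      (IsArtinianRing.localization_surjective p.primeCompl _) (baer_of_nondegenerate l hl)).injective)

end SectGorLib
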