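import Groth.Agent.SectGorLib.Basis
import Groth.Agent.SectGorLib.Frob
import Groth.Agent.GorLib.Fibres
import Mathlib.RingTheory.TensorProduct.Free

/-!
# The section ring of a point is Gorenstein iff the Weierstrass semigroup is symmetric
-/

set_option autoImplicit false

open Polynomial TensorProduct

namespace SectGorLib

open FunFld W4c6gradedringsgw Groth.Agent.FFLib

universe u

variable {k : Type u} {K : Type u} [Field k] [Field K] [Algebra k K] [IsAlgClosed k]
variable {P : Place k K}

/-- Evaluation at the origin. -/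
noncomputable def origin (k : Type u) [Field k] : (k[X])[X] →+* k :=
  (constantCoeff : k[X] →+* k).comp constantCoeff

namespace Frame

variable (F : Frame P)

omit [IsAlgClosed k] in
lemma lift_mul_hom {n n' : ℕ} (hn : n ∈ F.S.H) (hn' : n' ∈ F.S.H) {m : ℕ} (hm : n + n' < m) :
    ((F.lift n * F.lift n' : ↥(SR P)) : K[X]).coeff m = 0 := by
  rw [Subalgebra.coe_mul, coeff_mul]
  refine Finset.sum_eq_zero fun x hx => ?_
  rw [Finset.HasAntidiagonal.mem_antidiagonal] at hx
  rcases eq_or_ne x.1 n with h | h
  · rw [F.lift_hom n' hn' x.2 (by omega), mul_zero]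
  · rw [F.lift_hom n hn x.1 h, zero_mul]

omit [IsAlgClosed k] in
lemma Φ_gen_mul (i j : Fin F.S.e) :
    F.Φ (F.gen i * F.gen j) = monomial (F.S.w i + F.S.w j) 1 := by
  rw [map_mul, gen, gen, F.lift_lead _ (F.S.w_mem i), F.lift_lead _ (F.S.w_mem j), monomial_mul_monomial,
    one_mul]

omit [IsAlgClosed k] in
lemma origin_eq (a : Fin F.S.e → (k[X])[X]) (r : Fin F.S.e) :
    origin k (a r) = (F.Φ (F.psi a)).coeff (F.S.w r) := by
  have := F.Φ_psi_coeff a 0 r
  rw [zero_mul, zero_add] at this
  rw [this]; rfl

omit [IsAlgClosed k] in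
lemma prod_coeff_lt {i j rs : Fin F.S.e} (h : F.S.w i + F.S.w j < F.S.w rs)
    {a : Fin F.S.e → (k[X])[X]} (ha : F.psi a = F.gen i * F.gen j) : a rs = 0 := by
  obtain ⟨b, hb, hbe⟩ := F.exists_psi_eq (F.S.w i + F.S.w j) (F.gen i * F.gen j)
    fun m hm => F.lift_mul_hom (F.S.w_mem i) (F.S.w_mem j) hm
  rw [F.psi_injective (ha.trans hbe.symm)]
  exact (hb rs).1 h

omit [IsAlgClosed k] in
lemma prod_coeff_eq {i j rs : Fin F.S.e} (h : F.S.w i + F.S.w j = F.S.w rs)
    {a : Fin F.S.e → (k[X])[X]} (ha : F.psi a = F.gen i * F.gen j) : a rs = 1 := by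
  obtain ⟨b, hb, hbe⟩ := F.exists_psi_eq (F.S.w i + F.S.w j) (F.gen i * F.gen j)
    fun m hm => F.lift_mul_hom (F.S.w_mem i) (F.S.w_mem j) hm
  rw [F.psi_injective (ha.trans hbe.symm)]
  obtain ⟨c, hc⟩ := (hb rs).2 h.symm
  have h1 := F.origin_eq b rs
  rw [hc, hbe, Φ_gen_mul, h, coeff_monomial, if_pos rfl] at h1
  have : c = 1 := by simpa [origin] using h1
  rw [hc, this, map_one, map_one]

omit [IsAlgClosed k] in
theorem gorenstein_iff : LocCoh.IsGorensteinRing ↥(SR P) ↔ IsSymmetric (F.S.H : Set ℕ) := by
  classical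
  let A := (k[X])[X]
  letI : Algebra A ↥(SR P) := F.ι.toAlgebra
  let Ψ : (Fin F.S.e → A) →ₗ[A] ↥(SR P) :=
    { toFun := F.psi
      map_add' := F.psi_add
      map_smul' := fun c a => by
        rw [RingHom.id_apply, Algebra.smul_def]
        exact F.psi_mul c a }
  let e := LinearEquiv.ofBijective Ψ ⟨F.psi_injective, F.psi_surjective⟩
  let b : Module.Basis (Fin F.S.e) A ↥(SR P) := Module.Basis.ofEquivFun e.symm
  have hb : ∀ r, b r = F.gen r := fun r => by
    simp only [b, Module.Basis.coe_ofEquivFun, LinearEquiv.symm_symm]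
    show F.psi (Pi.single r 1) = F.gen r
    rw [F.psi_single, map_one, one_mul]
  have hrepr : ∀ x, F.psi (fun r => b.repr x r) = x := fun x => by
    have h1 : (fun r => b.repr x r) = e.symm x := by
      funext r; exact Module.Basis.ofEquivFun_repr_apply e.symm x r
    rw [h1]
    exact e.apply_symm_apply x
  haveI : Module.Finite A ↥(SR P) := Module.Finite.of_basis b
  haveI : Module.Free A ↥(SR P) := Module.Free.of_basis b
  haveI : IsNoetherianRing ↥(SR P) := IsNoetherianRing.of_finite A _
  have hA : LocCoh.IsGorensteinRing A :=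
    GorLib.gorensteinRing_polynomial (GorLib.gorensteinRing_polynomial GorLib.gorensteinRing_of_field)
  have hprod : ∀ (p : Ideal A) [p.IsPrime] (x : ↥(SR P)) (r : Fin F.S.e),
      (Algebra.TensorProduct.basis p.ResidueField b).repr ((1 : p.ResidueField) ⊗ₜ[A] x) r =
        algebraMap A p.ResidueField (b.repr x r) := by
    intro p _ x r
    rw [Algebra.TensorProduct.basis_repr_tmul, one_smul, Finsupp.mapRange_apply]
  constructor
  · -- Gorenstein implies symmetric
    intro hR
    have hfib : ∀ (p : Ideal A) [p.IsPrime], LocCoh.IsGorensteinRing (p.Fiber ↥(SR P)) := by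
      intro p _
      haveI : IsNoetherianRing (p.Fiber ↥(SR P)) :=
        IsNoetherianRing.of_finite p.ResidueField _
      refine GorLib.gorensteinRing_fiber fun r _ hr => ?_
      subst hr
      exact ((GorLib.gorenstein_localization_flat_iff (R := A) r).1
        (hR.isGorensteinLocalRing_localization r)).2
    obtain ⟨p0, hp0, hmem0⟩ : ∃ p : Ideal A, p.IsPrime ∧ ∀ a : A, origin k a = 0 → a ∈ p :=
      ⟨RingHom.ker (origin k), RingHom.ker_isPrime _, fun a ha => ha⟩
    haveI := hp0
    let κ := p0.ResidueField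
    let B := p0.Fiber ↥(SR P)
    have hB : LocCoh.IsGorensteinRing B := hfib p0
    let β : Module.Basis (Fin F.S.e) κ B := Algebra.TensorProduct.basis κ b
    let ψ : k →+* κ := (algebraMap A κ).comp ((C : k[X] →+* A).comp (C : k →+* k[X]))
    have hred : ∀ (x : ↥(SR P)) r,
        β.repr ((1 : κ) ⊗ₜ[A] x) r = ψ ((F.Φ x).coeff (F.S.w r)) := by
      intro x r
      rw [hprod p0 x r]
      have h1 := F.origin_eq (fun r => b.repr x r) r
      rw [hrepr] at h1
      rw [← h1]
      refine sub_eq_zero.1 ?_
      show algebraMap A κ _ - algebraMap A κ (C (C _)) = 0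
      rw [← map_sub, Ideal.algebraMap_residueField_eq_zero]
      exact hmem0 _ (by rw [map_sub]; simp [origin])
    have hβ : ∀ i, β i = (1 : κ) ⊗ₜ[A] F.gen i := fun i => by
      rw [← hb]; exact Algebra.TensorProduct.basis_apply b i
    have hmul : ∀ i j r, β.repr (β i * β j) r = if F.S.w i + F.S.w j = F.S.w r then 1 else 0 := by
      intro i j r
      rw [hβ, hβ, Algebra.TensorProduct.tmul_mul_tmul, one_mul, hred, Φ_gen_mul, coeff_monomial,
        apply_ite ψ, map_one, map_zero]
    have hmul0 : ∀ i j, (∀ r, F.S.w i + F.S.w j ≠ F.S.w r) → β i * β j = 0 := fun i j h =>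
      β.ext_elem fun r => by rw [hmul, if_neg (h r), map_zero, Finsupp.zero_apply]
    have hmul1 : ∀ i j t, F.S.w i + F.S.w j = F.S.w t → β i * β j = β t := fun i j t h =>
      β.ext_elem fun r => by
        rw [hmul, β.repr_self, Finsupp.single_apply]
        refine if_congr ?_ rfl rfl
        rw [h]
        exact F.S.w_inj.eq_iff
    have hone : β F.S.zero' = 1 := β.ext_elem fun r => by
      rw [β.repr_self, Algebra.TensorProduct.one_def, hred, map_one, coeff_one, Finsupp.single_apply,
        apply_ite ψ, map_one, map_zero]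
      refine if_congr ?_ rfl rfl
      rw [← F.S.w_zero]
      exact ⟨fun h => by rw [h], fun h => (F.S.w_inj h).symm⟩
    haveI : Nontrivial B := ⟨⟨β F.S.zero', 0, β.ne_zero _⟩⟩
    have hnil : ∀ i, i ≠ F.S.zero' → IsNilpotent (β i) := by
      intro i hi
      have hpow : ∀ m, β i ^ (m + 1) = 0 ∨ ∃ t, β i ^ (m + 1) = β t ∧ m + 1 ≤ F.S.w t := by
        intro m
        have hpos : 1 ≤ F.S.w i := Nat.one_le_iff_ne_zero.2 fun h =>
          hi (F.S.w_inj (h.trans F.S.w_zero.symm))
        induction m with
        | zero => exact Or.inr ⟨i, pow_one _, hpos⟩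
        | succ m ih =>
          rcases ih with h | ⟨t, ht, hle⟩
          · exact Or.inl (by rw [pow_succ, h, zero_mul])
          · by_cases hex : ∃ s, F.S.w t + F.S.w i = F.S.w s
            · obtain ⟨s, hs⟩ := hex
              exact Or.inr ⟨s, by rw [pow_succ, ht, hmul1 _ _ _ hs], by omega⟩
            · exact Or.inl (by rw [pow_succ, ht, hmul0 _ _ (not_exists.1 hex)])
      refine ⟨Finset.univ.sup F.S.w + 1, (hpow _).resolve_right ?_⟩
      rintro ⟨t, -, ht⟩
      have := Finset.le_sup (f := F.S.w) (Finset.mem_univ t)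
      omega
    have hsplit : ∀ x : B, x = β.repr x F.S.zero' • (1 : B) +
        ∑ i ∈ Finset.univ.erase F.S.zero', β.repr x i • β i := by
      intro x
      conv_lhs => rw [← β.sum_repr x]
      rw [← hone, Finset.add_sum_erase _ (fun i => β.repr x i • β i) (Finset.mem_univ F.S.zero')]
    have hN : ∀ x : B, IsNilpotent (∑ i ∈ Finset.univ.erase F.S.zero', β.repr x i • β i) := fun x =>
      isNilpotent_sum fun i hi => (hnil i (Finset.ne_of_mem_erase hi)).smul _
    have hunit : ∀ x : B, β.repr x F.S.zero' ≠ 0 → IsUnit x := fun x hx => by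
      rw [hsplit x, ← Algebra.algebraMap_eq_smul_one]
      exact (hN x).isUnit_add_left_of_commute ((IsUnit.mk0 _ hx).map _) (Commute.all _ _)
    haveI : IsLocalRing B := IsLocalRing.of_isUnit_or_isUnit_one_sub_self fun x => by
      by_cases hx : β.repr x F.S.zero' = 0
      · right
        have : IsNilpotent x := by rw [hsplit x, hx, zero_smul, zero_add]; exact hN x
        exact this.isUnit_one_sub
      · exact Or.inl (hunit x hx)
    haveI : IsArtinianRing B := isArtinian_of_tower κ inferInstance
    have hloc : LocCoh.IsGorensteinLocalRing B := by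
      refine GorLib.gorenstein_of_ringEquiv ?_
        (hB.isGorensteinLocalRing_localization (IsLocalRing.maximalIdeal B))
      exact (IsLocalization.atUnits B (IsLocalRing.maximalIdeal B).primeCompl
        fun x hx => IsLocalRing.notMem_maximalIdeal.1 hx).toRingEquiv
    obtain ⟨s, -, hs, hsoc⟩ := GorLib.gorenstein_iff_socCyclic.1 hloc
    have hmax : ∀ a, (∀ l, l ≠ F.S.zero' → ∀ t, F.S.w a + F.S.w l ≠ F.S.w t) → ∃ c : κ, β a = c • s := by
      intro a ha
      obtain ⟨c, hc⟩ := Ideal.mem_span_singleton'.1 (hsoc (β a) fun x hx => by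
        have h0 : β.repr x F.S.zero' = 0 := by
          by_contra h
          exact (IsLocalRing.mem_maximalIdeal x).1 hx (hunit x h)
        rw [hsplit x, h0, zero_smul, zero_add, Finset.sum_mul]
        refine Finset.sum_eq_zero fun l hl => ?_
        rw [smul_mul_assoc, hmul0 l a fun t => by
          rw [add_comm]; exact ha l (Finset.ne_of_mem_erase hl) t, smul_zero])
      refine ⟨β.repr c F.S.zero', ?_⟩
      have hNs : (∑ i ∈ Finset.univ.erase F.S.zero', β.repr c i • β i) * s = 0 :=
        hs _ ((IsLocalRing.mem_maximalIdeal _).2 (hN c).not_isUnit)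
      rw [← hc]
      conv_lhs => rw [hsplit c]
      rw [add_mul, hNs, add_zero, smul_mul_assoc, one_mul]
    obtain ⟨rs, hrs⟩ := F.S.pairing_of_unique_max fun a b' ha hb' => by
      obtain ⟨c, hc⟩ := hmax a ha
      obtain ⟨d, hd⟩ := hmax b' hb'
      by_contra hne
      have h1 : d • β a = c • β b' := by rw [hc, hd, smul_smul, smul_smul, mul_comm]
      have h2 := congrArg (fun x => β.repr x a) h1
      simp only [map_smul, Finsupp.smul_apply, Module.Basis.repr_self, Finsupp.single_eq_same,
        Finsupp.single_eq_of_ne hne, smul_eq_mul, mul_one, mul_zero] at h2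
      exact β.ne_zero b' (by rw [hd, h2, zero_smul])
    exact F.S.symmetric_of_pairing rs hrs
  · -- symmetric implies Gorenstein
    intro hsym
    obtain ⟨rs, hrs⟩ := F.S.pairing_of_symmetric hsym
    refine { isGorensteinLocalRing_localization := fun r _ => ?_ }
    refine (GorLib.gorenstein_localization_iff_of_fibre (R := A) r ?_).1
      (hA.isGorensteinLocalRing_localization _)
    let p := r.comap (algebraMap A ↥(SR P))
    let κ := p.ResidueField
    let β : Module.Basis (Fin F.S.e) κ (p.Fiber ↥(SR P)) := Algebra.TensorProduct.basis κ b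
    refine gorensteinRing_of_nondegenerate (β.coord rs) fun x hx => ?_
    by_contra hne
    obtain ⟨i0, hi0, himax⟩ := Finset.exists_max_image
      (Finset.univ.filter fun i => β.repr x i ≠ 0) F.S.w (by
        by_contra hemp
        refine hne (β.ext_elem fun i => ?_)
        rw [map_zero, Finsupp.zero_apply]
        by_contra hi
        exact hemp ⟨i, Finset.mem_filter.2 ⟨Finset.mem_univ _, hi⟩⟩)
    rw [Finset.mem_filter] at hi0
    obtain ⟨j0, hj0⟩ := hrs i0
    have h := hx (β j0)
    rw [← β.sum_repr x, Finset.sum_mul, map_sum, Finset.sum_eq_single i0] at h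
    · rw [smul_mul_assoc, map_smul, Algebra.TensorProduct.basis_apply b i0,
        Algebra.TensorProduct.basis_apply b j0, Algebra.TensorProduct.tmul_mul_tmul, one_mul,
        Module.Basis.coord_apply, hprod p, hb, hb, F.prod_coeff_eq (a := fun r => b.repr _ r) hj0 (hrepr _),
        map_one, smul_eq_mul, mul_one] at h
      exact hi0.2 h
    · intro i _ hne'
      rw [smul_mul_assoc, map_smul]
      by_cases hi : β.repr x i = 0
      · rw [hi, zero_smul]
      · have hlt : F.S.w i + F.S.w j0 < F.S.w rs := by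
          have h1 := himax i (Finset.mem_filter.2 ⟨Finset.mem_univ _, hi⟩)
          have h2 : F.S.w i ≠ F.S.w i0 := fun e => hne' (F.S.w_inj e)
          omega
        rw [Algebra.TensorProduct.basis_apply b i,
          Algebra.TensorProduct.basis_apply b j0, Algebra.TensorProduct.tmul_mul_tmul, one_mul,
          Module.Basis.coord_apply, hprod p, hb, hb, F.prod_coeff_lt (a := fun r => b.repr _ r) hlt (hrepr _),
          map_zero, smul_zero]
    · simp

end Frame

theorem sectRing_gorenstein_iff (hK : IsFunctionField k K) (P : Place k K) :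
    LocCoh.IsGorensteinRing ↥(SR P) ↔ IsSymmetric (poleOrders P) := by
  obtain ⟨F⟩ := exists_frame P hK
  rw [poleOrders_eq hK, ← F.hH]
  exact F.gorenstein_iff

end SectGorLib
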