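import Mathlib.Algebra.Group.Submonoid.Membership
import Mathlib.Data.Nat.Find
import Mathlib.Tactic.Ring
import Mathlib.Tactic.Linarith
import Groth.Prelude.Def_W4c6gradedringsgwSect

/-!
# Apéry sets of numerical semigroups and symmetry
-/

set_option autoImplicit false

namespace SectGorLib

open W4c6gradedringsgw

/-- The data of a numerical semigroup with a chosen positive element. -/
structure Sgp where
  H : AddSubmonoid ℕ
  e : ℕ
  epos : 0 < e
  emem : e ∈ H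
  N : ℕ
  big : ∀ n, N ≤ n → n ∈ H

namespace Sgp

variable (S : Sgp)

open Classical in
lemma exists_class (r : Fin S.e) : ∃ n, n ∈ S.H ∧ n % S.e = r := by
  refine ⟨r + S.N * S.e, S.big _ ?_, by rw [Nat.add_mul_mod_self_right, Nat.mod_eq_of_lt r.2]⟩
  have := S.epos
  nlinarith

open Classical in
/-- The least element of the semigroup in a residue class. -/
noncomputable def w (r : Fin S.e) : ℕ := Nat.find (S.exists_class r)

open Classical in
lemma w_mem (r : Fin S.e) : S.w r ∈ S.H := (Nat.find_spec (S.exists_class r)).1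

open Classical in
lemma w_mod (r : Fin S.e) : S.w r % S.e = r := (Nat.find_spec (S.exists_class r)).2

open Classical in
lemma w_le {r : Fin S.e} {n : ℕ} (h : n ∈ S.H) (hr : n % S.e = r) : S.w r ≤ n :=
  Nat.find_min' _ ⟨h, hr⟩

lemma mul_e_mem (q : ℕ) : q * S.e ∈ S.H := by
  rw [← smul_eq_mul]; exact S.H.nsmul_mem S.emem q

lemma add_mem' (q : ℕ) (r : Fin S.e) : q * S.e + S.w r ∈ S.H := S.H.add_mem (S.mul_e_mem q) (S.w_mem r)

lemma decomp {n : ℕ} (h : n ∈ S.H) : ∃ (q : ℕ) (r : Fin S.e), n = q * S.e + S.w r := by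
  let r : Fin S.e := ⟨n % S.e, Nat.mod_lt _ S.epos⟩
  have hle : S.w r ≤ n := S.w_le h rfl
  obtain ⟨q, hq⟩ : S.e ∣ n - S.w r := (Nat.modEq_iff_dvd' hle).1 (S.w_mod r)
  exact ⟨q, r, by rw [mul_comm, ← hq]; omega⟩

lemma unique {q q' : ℕ} {r r' : Fin S.e} (h : q * S.e + S.w r = q' * S.e + S.w r') : q = q' ∧ r = r' := by
  have hr : r = r' := by
    apply Fin.ext
    rw [← S.w_mod r, ← S.w_mod r', ← Nat.mul_add_mod_self_right q S.e (S.w r),
      ← Nat.mul_add_mod_self_right q' S.e (S.w r'), h]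
  subst hr
  exact ⟨Nat.eq_of_mul_eq_mul_right S.epos (by omega), rfl⟩

lemma w_inj : Function.Injective S.w := fun r r' h =>
  (S.unique (q := 0) (q' := 0) (by rw [h])).2

lemma not_mem_sub (r : Fin S.e) {m : ℕ} (hm : m ∈ S.H) : m + S.e ≠ S.w r := fun h => by
  have h1 : m % S.e = r := by rw [← S.w_mod r, ← h, Nat.add_mod_right]
  have := S.w_le hm h1
  have := S.epos
  omega

lemma eq_w {n : ℕ} (hn : n ∈ S.H) (h : ∀ m ∈ S.H, m + S.e ≠ n) : ∃ r, S.w r = n := by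
  obtain ⟨q, r, rfl⟩ := S.decomp hn
  rcases q with _ | q
  · exact ⟨r, by simp⟩
  · exact absurd (by ring) (h _ (S.add_mem' q r))

/-- The class of zero. -/
def zero' : Fin S.e := ⟨0, S.epos⟩

lemma w_zero : S.w S.zero' = 0 := Nat.le_zero.1 (S.w_le S.H.zero_mem (Nat.zero_mod _))

/-- Symmetry in terms of the Apéry set. -/
lemma pairing_of_symmetric (hs : IsSymmetric (S.H : Set ℕ)) :
    ∃ rs : Fin S.e, ∀ i, ∃ j, S.w i + S.w j = S.w rs := by
  obtain ⟨d, hd⟩ := hs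
  have key : ∀ (m : ℕ), (∃ h ∈ (S.H : Set ℕ), (h : ℤ) = (m : ℤ)) ↔ m ∈ S.H := fun m =>
    ⟨fun ⟨h, hh, e⟩ => by rwa [← show h = m by exact_mod_cast e], fun h => ⟨m, h, rfl⟩⟩
  -- for every Apéry element there is a partner
  have part : ∀ i, ∃ m ∈ S.H, (m : ℤ) + S.w i = d + S.e ∧ ∀ m' ∈ S.H, m' + S.e ≠ m := by
    intro i
    have h1 : ¬ ∃ h ∈ (S.H : Set ℕ), (h : ℤ) = (S.w i : ℤ) - S.e := fun ⟨h, hh, e⟩ =>
      S.not_mem_sub i hh (by omega)
    rw [hd, not_not] at h1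
    obtain ⟨m, hm, hme⟩ := h1
    refine ⟨m, hm, by omega, fun m' hm' he => ?_⟩
    have h2 := (hd (S.w i)).1 ((key _).2 (S.w_mem i))
    exact h2 ⟨m', hm', by omega⟩
  obtain ⟨M, hM, hMe, hMmin⟩ := part S.zero'
  obtain ⟨rs, hrs⟩ := S.eq_w hM hMmin
  refine ⟨rs, fun i => ?_⟩
  obtain ⟨m, hm, hme, hmin⟩ := part i
  obtain ⟨j, hj⟩ := S.eq_w hm hmin
  rw [S.w_zero] at hMe
  exact ⟨j, by omega⟩

lemma symmetric_of_pairing (rs : Fin S.e) (h : ∀ i, ∃ j, S.w i + S.w j = S.w rs) :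
    IsSymmetric (S.H : Set ℕ) := by
  refine ⟨(S.w rs : ℤ) - S.e, fun n => ?_⟩
  have he : (0 : ℤ) < S.e := by exact_mod_cast S.epos
  -- membership of an integer, through its class
  have key : ∀ (n : ℤ) (r : Fin S.e), (S.e : ℤ) ∣ n - S.w r →
      ((∃ h ∈ (S.H : Set ℕ), (h : ℤ) = n) ↔ (S.w r : ℤ) ≤ n) := by
    intro n r hdvd
    constructor
    · rintro ⟨h, hh, rfl⟩
      have hmod : h % S.e = r := by
        rw [← S.w_mod r]
        exact ((Nat.modEq_iff_dvd).2 hdvd).symm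
      exact_mod_cast S.w_le hh hmod
    · intro hle
      obtain ⟨q, hq⟩ := hdvd
      obtain ⟨q', rfl⟩ : ∃ q' : ℕ, (q' : ℤ) = q := ⟨q.toNat, Int.toNat_of_nonneg (by nlinarith)⟩
      exact ⟨q' * S.e + S.w r, S.add_mem' q' r, by push_cast; linarith⟩
  have hcls : 0 ≤ n % (S.e : ℤ) ∧ n % (S.e : ℤ) < S.e :=
    ⟨Int.emod_nonneg n (by omega), Int.emod_lt_of_pos n he⟩
  let r : Fin S.e := ⟨(n % (S.e : ℤ)).toNat, by omega⟩
  have hr : (S.e : ℤ) ∣ n - S.w r := by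
    have h1 : ((S.w r % S.e : ℕ) : ℤ) = n % (S.e : ℤ) := by
      rw [S.w_mod r]; exact Int.toNat_of_nonneg hcls.1
    push_cast at h1
    exact Int.ModEq.dvd h1
  obtain ⟨j, hj⟩ := h r
  have hr' : (S.e : ℤ) ∣ ((S.w rs : ℤ) - S.e - n) - S.w j := by
    have : ((S.w rs : ℤ) - S.e - n) - S.w j = -(n - S.w r) - S.e := by
      have : (S.w r : ℤ) + S.w j = S.w rs := by exact_mod_cast hj
      linarith
    rw [this]
    exact dvd_sub (dvd_neg.2 hr) dvd_rfl
  rw [key n r hr, key _ j hr', not_le]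
  have hjZ : (S.w r : ℤ) + S.w j = S.w rs := by exact_mod_cast hj
  constructor
  · intro hle; omega
  · intro hlt
    obtain ⟨q, hq⟩ := hr
    have : 0 ≤ q := by nlinarith
    nlinarith

/-- A unique maximal Apéry element is a pairing. -/
lemma pairing_of_unique_max (h : ∀ a b : Fin S.e,
    (∀ l, l ≠ S.zero' → ∀ t, S.w a + S.w l ≠ S.w t) →
    (∀ l, l ≠ S.zero' → ∀ t, S.w b + S.w l ≠ S.w t) → a = b) :
    ∃ rs : Fin S.e, ∀ i, ∃ j, S.w i + S.w j = S.w rs := by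
  classical
  have ex : ∀ i, ∃ r, (∃ j, S.w i + S.w j = S.w r) ∧ ∀ l, l ≠ S.zero' → ∀ t, S.w r + S.w l ≠ S.w t := by
    intro i
    have hne : (Finset.univ.filter fun r => ∃ j, S.w i + S.w j = S.w r).Nonempty :=
      ⟨i, Finset.mem_filter.2 ⟨Finset.mem_univ _, S.zero', by rw [S.w_zero, add_zero]⟩⟩
    obtain ⟨r, hr, hmax⟩ := Finset.exists_max_image _ S.w hne
    obtain ⟨-, j, hj⟩ := Finset.mem_filter.1 hr
    refine ⟨r, ⟨j, hj⟩, fun l hl t ht => ?_⟩
    obtain ⟨j', hj'⟩ := S.eq_w (S.H.add_mem (S.w_mem j) (S.w_mem l)) fun m hm he =>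
      S.not_mem_sub t (S.H.add_mem (S.w_mem i) hm) (by omega)
    have := hmax t (Finset.mem_filter.2 ⟨Finset.mem_univ _, j', by omega⟩)
    have : S.w l ≠ 0 := fun h0 => hl (S.w_inj (h0.trans S.w_zero.symm))
    omega
  choose r hr hmax using ex
  exact ⟨r S.zero', fun i => by rw [h (r S.zero') (r i) (hmax _) (hmax _)]; exact hr i⟩

end Sgp

end SectGorLib
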