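import Groth.Agent.SectGorLib.Apery
import Groth.Agent.FFLib.SectQuot
import Mathlib.Algebra.Polynomial.Expand

/-!
# The section ring of a point as a free module over a polynomial ring in two variables
-/

set_option autoImplicit false

open Polynomial

namespace SectGorLib

open FunFld W4c6gradedringsgw Groth.Agent.FFLib

universe u

variable {k : Type u} {K : Type u} [Field k] [Field K] [Algebra k K]
variable (P : Place k K)

/-- A leading term map together with monomial lifts. -/
structure Frame where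
  Φ : ↥(SR P) →ₐ[k] k[X]
  hker : RingHom.ker Φ = Ideal.span {sectT P}
  coeff_eq_zero : ∀ (p : ↥(SR P)) (n : ℕ), (p : K[X]).coeff n = 0 → (Φ p).coeff n = 0
  S : Sgp
  hH : S.H = poleSubmonoid P
  out : ∀ (p : ↥(SR P)) (n : ℕ), n ∉ S.H → (Φ p).coeff n = 0
  lift : ℕ → ↥(SR P)
  lift_hom : ∀ n ∈ S.H, ∀ m, m ≠ n → (lift n : K[X]).coeff m = 0
  lift_lead : ∀ n ∈ S.H, Φ (lift n) = monomial n 1

variable [IsAlgClosed k]

theorem exists_frame (hK : IsFunctionField k K) : Nonempty (Frame P) := by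
  classical
  obtain ⟨Φ, hΦ⟩ := exists_lead hK P
  let N := 2 * genus k K + 1
  have hbig : ∀ n, N ≤ n → n ∈ poleSubmonoid P := fun n hn => mem_poleSubmonoid_of_le hK P hn
  refine ⟨{
    Φ := Φ
    hker := ker_lead hK P Φ hΦ
    coeff_eq_zero := fun p n h => (hΦ p n).2 (by rw [h]; exact Submodule.zero_mem _)
    S := ⟨poleSubmonoid P, N, Nat.succ_pos _, hbig N le_rfl, N, hbig⟩
    hH := rfl
    out := fun p n hn => by_contra fun h => hn ((lead_coeff_ne_zero_iff P Φ hΦ n).2 ⟨p, h⟩)
    lift := fun n => if h : n ∈ poleSubmonoid P then (exists_lift P Φ hΦ h).choose else 0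
    lift_hom := fun n hn => by
      have hn' : n ∈ poleSubmonoid P := hn
      simp only [hn', dite_true]
      exact (exists_lift P Φ hΦ hn').choose_spec.1
    lift_lead := fun n hn => by
      have hn' : n ∈ poleSubmonoid P := hn
      simp only [hn', dite_true]
      exact (exists_lift P Φ hΦ hn').choose_spec.2 }⟩

namespace Frame

variable {P} (F : Frame P)

omit [IsAlgClosed k] in
lemma Φ_T : F.Φ (sectT P) = 0 := by
  have : sectT P ∈ RingHom.ker F.Φ := by rw [F.hker]; exact Ideal.mem_span_singleton_self _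
  exact this

/-- The second parameter. -/
noncomputable def U : ↥(SR P) := F.lift F.S.e

/-- The generators indexed by the residue classes. -/
noncomputable def gen (r : Fin F.S.e) : ↥(SR P) := F.lift (F.S.w r)

/-- The coefficient map of the polynomial ring in two variables. -/
noncomputable def ι : (k[X])[X] →+* ↥(SR P) :=
  eval₂RingHom (aeval F.U : k[X] →ₐ[k] ↥(SR P)).toRingHom (sectT P)

omit [IsAlgClosed k] in
lemma ι_X : F.ι X = sectT P := eval₂_X _ _

omit [IsAlgClosed k] in
lemma ι_C (a : k[X]) : F.ι (C a) = aeval F.U a := eval₂_C _ _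

omit [IsAlgClosed k] in
lemma Φ_U : F.Φ F.U = X ^ F.S.e := by
  rw [U, F.lift_lead _ F.S.emem, monomial_one_right_eq_X_pow]

omit [IsAlgClosed k] in
lemma Φ_ι (a : (k[X])[X]) : F.Φ (F.ι a) = expand k F.S.e (a.coeff 0) := by
  conv_lhs => rw [← X_mul_divX_add a]
  rw [map_add, map_mul, ι_X, map_add, map_mul, F.Φ_T, zero_mul, zero_add, ι_C, ← aeval_algHom_apply,
    Φ_U]
  rfl

/-- The linear combination of the generators. -/
noncomputable def psi (a : Fin F.S.e → (k[X])[X]) : ↥(SR P) := ∑ r, F.ι (a r) * F.gen r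

omit [IsAlgClosed k] in
lemma Φ_psi_coeff (a : Fin F.S.e → (k[X])[X]) (q : ℕ) (r : Fin F.S.e) :
    (F.Φ (F.psi a)).coeff (q * F.S.e + F.S.w r) = ((a r).coeff 0).coeff q := by
  rw [psi, map_sum, finset_sum_coeff, Finset.sum_eq_single r]
  · rw [map_mul, Φ_ι, gen, F.lift_lead _ (F.S.w_mem r), monomial_one_right_eq_X_pow, coeff_mul_X_pow,
      coeff_expand_mul F.S.epos]
  · intro r' _ hne
    rw [map_mul, Φ_ι, gen, F.lift_lead _ (F.S.w_mem r'), monomial_one_right_eq_X_pow, coeff_mul_X_pow']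
    split_ifs with h
    · rw [coeff_expand F.S.epos, if_neg]
      rintro ⟨c, hc⟩
      exact hne (F.S.unique (q := c) (q' := q) (by rw [mul_comm c]; omega)).2
    · rfl
  · simp

omit [IsAlgClosed k] in
lemma psi_add (a b : Fin F.S.e → (k[X])[X]) : F.psi (a + b) = F.psi a + F.psi b := by
  simp only [psi, Pi.add_apply, map_add, add_mul, Finset.sum_add_distrib]

omit [IsAlgClosed k] in
lemma psi_mul (c : (k[X])[X]) (a : Fin F.S.e → (k[X])[X]) :
    F.psi (fun r => c * a r) = F.ι c * F.psi a := by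
  simp only [psi, map_mul, mul_assoc, Finset.mul_sum]

omit [IsAlgClosed k] in
lemma psi_single [DecidableEq (Fin F.S.e)] (r : Fin F.S.e) (c : (k[X])[X]) :
    F.psi (Pi.single r c) = F.ι c * F.gen r := by
  rw [psi, Finset.sum_eq_single r]
  · rw [Pi.single_eq_same]
  · intro r' _ h; rw [Pi.single_eq_of_ne h, map_zero, zero_mul]
  · simp

/-- The coefficients allowed for an element of degree at most `n`. -/
def Bdd (n : ℕ) (a : Fin F.S.e → (k[X])[X]) : Prop :=
  ∀ r, (n < F.S.w r → a r = 0) ∧ (F.S.w r = n → ∃ c : k, a r = C (C c))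

omit [IsAlgClosed k] in
lemma pow_lift_hom {q : ℕ} (r : Fin F.S.e) {m : ℕ} (hm : m ≠ q * F.S.e + F.S.w r) :
    ((F.U ^ q * F.gen r : ↥(SR P)) : K[X]).coeff m = 0 := by
  have h : ∀ n ∈ F.S.H, (F.lift n : K[X]) = monomial n ((F.lift n : K[X]).coeff n) := fun n hn => by
    ext j
    rw [coeff_monomial]
    split_ifs with hj
    · rw [hj]
    · exact F.lift_hom n hn j (Ne.symm hj)
  rw [Subalgebra.coe_mul, Subalgebra.coe_pow]
  show ((F.lift F.S.e : K[X]) ^ q * (F.lift (F.S.w r) : K[X])).coeff m = 0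
  rw [h _ F.S.emem, h _ (F.S.w_mem r), monomial_pow, monomial_mul_monomial, coeff_monomial, if_neg]
  rw [mul_comm] at hm
  exact Ne.symm hm

omit [IsAlgClosed k] in
lemma exists_step (n : ℕ) (p : ↥(SR P)) (hp : ∀ m, n < m → (p : K[X]).coeff m = 0) :
    ∃ (a : Fin F.S.e → (k[X])[X]) (q : ↥(SR P)), F.Bdd n a ∧ p = F.psi a + sectT P * q ∧
      ∀ m, n ≤ m → (q : K[X]).coeff m = 0 := by
  classical
  set f := F.Φ p with hf
  have hf0 : ∀ m, n < m → f.coeff m = 0 := fun m hm => F.coeff_eq_zero p m (hp m hm)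
  let cc : Fin F.S.e → k[X] := fun r =>
    ∑ q ∈ Finset.range (n + 1), monomial q (f.coeff (q * F.S.e + F.S.w r))
  have hcc : ∀ r q, (cc r).coeff q = f.coeff (q * F.S.e + F.S.w r) := by
    intro r q
    rw [finset_sum_coeff]
    simp only [coeff_monomial]
    rw [Finset.sum_ite_eq' (Finset.range (n + 1)) q]
    split_ifs with h
    · rfl
    · rw [Finset.mem_range] at h
      refine (hf0 _ ?_).symm
      have := F.S.epos
      nlinarith
  refine ⟨fun r => C (cc r), ?_⟩
  have hΦ : F.Φ (F.psi fun r => C (cc r)) = f := by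
    ext m
    by_cases hm : m ∈ F.S.H
    · obtain ⟨q, r, rfl⟩ := F.S.decomp hm
      rw [Φ_psi_coeff, coeff_C_zero, hcc]
    · rw [F.out _ _ hm, F.out _ _ hm]
  have hdeg : ∀ m, n < m → ((F.psi fun r => C (cc r) : ↥(SR P)) : K[X]).coeff m = 0 := by
    intro m hm
    simp only [psi, AddSubmonoidClass.coe_finsetSum, finset_sum_coeff]
    refine Finset.sum_eq_zero fun r _ => ?_
    rw [ι_C, map_sum, Finset.sum_mul, AddSubmonoidClass.coe_finsetSum, finset_sum_coeff]
    refine Finset.sum_eq_zero fun q _ => ?_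
    rw [aeval_monomial, mul_assoc, ← Algebra.smul_def, Subalgebra.coe_smul, coeff_smul]
    by_cases h : m = q * F.S.e + F.S.w r
    · rw [← h, hf0 m hm, zero_smul]
    · rw [F.pow_lift_hom r h, smul_zero]
  have hmem : p - F.psi (fun r => C (cc r)) ∈ RingHom.ker F.Φ := by
    rw [RingHom.mem_ker, map_sub, hΦ, ← hf, sub_self]
  rw [F.hker, Ideal.mem_span_singleton'] at hmem
  obtain ⟨q, hq⟩ := hmem
  refine ⟨q, fun r => ⟨fun hr => ?_, fun hr => ⟨f.coeff n, ?_⟩⟩, ?_, fun m hm => ?_⟩
  · have : cc r = 0 := by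
      ext j
      rw [hcc, coeff_zero, hf0 _ (by omega)]
    show C (cc r) = 0
    rw [this, map_zero]
  · refine congrArg C ?_
    ext j
    rw [hcc, coeff_C]
    split_ifs with hj
    · subst hj; rw [zero_mul, zero_add, hr]
    · refine hf0 _ ?_
      have : 0 < j * F.S.e := Nat.mul_pos (Nat.pos_of_ne_zero hj) F.S.epos
      omega
  · rw [mul_comm (sectT P), hq]; ring
  · have h := congrArg (fun z : ↥(SR P) => (z : K[X]).coeff (m + 1)) hq
    simp only [Subalgebra.coe_mul, Subalgebra.coe_sub, coeff_sub] at h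
    change ((q : K[X]) * monomial 1 (1 : K)).coeff (m + 1) = _ at h
    rw [monomial_one_one_eq_X, coeff_mul_X, hp _ (by omega), hdeg _ (by omega), sub_zero] at h
    exact h

omit [IsAlgClosed k] in
lemma exists_psi_eq : ∀ (n : ℕ) (p : ↥(SR P)), (∀ m, n < m → (p : K[X]).coeff m = 0) →
    ∃ a, F.Bdd n a ∧ F.psi a = p := by
  intro n
  induction n with
  | zero =>
    intro p hp
    obtain ⟨a, q, ha, hpq, hq⟩ := F.exists_step 0 p hp
    have : q = 0 := Subtype.ext (Polynomial.ext fun m => by rw [hq m (Nat.zero_le m)]; simp)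
    exact ⟨a, ha, by rw [hpq, this, mul_zero, add_zero]⟩
  | succ n ih =>
    intro p hp
    obtain ⟨a, q, ha, hpq, hq⟩ := F.exists_step (n + 1) p hp
    obtain ⟨b, hb, hbq⟩ := ih q fun m hm => hq m hm
    refine ⟨a + fun r => X * b r, fun r => ⟨fun hr => ?_, fun hr => ?_⟩, ?_⟩
    · rw [Pi.add_apply, (ha r).1 hr, (hb r).1 (by omega), mul_zero, add_zero]
    · obtain ⟨c, hc⟩ := (ha r).2 hr
      exact ⟨c, by rw [Pi.add_apply, hc, (hb r).1 (by omega), mul_zero, add_zero]⟩
    · rw [psi_add, psi_mul, ι_X, hbq, hpq]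

omit [IsAlgClosed k] in
lemma psi_eq_zero : ∀ (N : ℕ) (a : Fin F.S.e → (k[X])[X]), (∀ r, (a r).natDegree ≤ N) →
    F.psi a = 0 → a = 0 := by
  intro N
  induction N with
  | zero =>
    intro a hN h
    funext r
    rw [eq_C_of_natDegree_le_zero (hN r)]
    have : (a r).coeff 0 = 0 := by
      ext q
      rw [← F.Φ_psi_coeff a q r, h, map_zero, coeff_zero, coeff_zero]
    rw [this, map_zero]; rfl
  | succ N ih =>
    intro a hN h
    have h0 : ∀ r, (a r).coeff 0 = 0 := fun r => by
      ext q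
      rw [← F.Φ_psi_coeff a q r, h, map_zero, coeff_zero, coeff_zero]
    have ha : a = fun r => X * (a r).divX := by
      funext r
      conv_lhs => rw [← X_mul_divX_add (a r), h0 r, map_zero, add_zero]
    have hT : sectT P ≠ 0 := fun e => by
      have := congrArg (fun z : ↥(SR P) => (z : K[X]).coeff 1) e
      simp [sectT] at this
    have h1 : F.psi (fun r => (a r).divX) = 0 := by
      rw [ha, psi_mul, ι_X] at h
      exact (mul_eq_zero.1 h).resolve_left hT
    have h2 := ih _ (fun r => by rw [natDegree_divX_eq_natDegree_tsub_one]; have := hN r; omega) h1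
    rw [ha]
    funext r
    show X * (a r).divX = 0
    rw [show (a r).divX = 0 from congrFun h2 r, mul_zero]

omit [IsAlgClosed k] in
lemma psi_injective : Function.Injective F.psi := by
  intro a b hab
  have h : F.psi (a - b) = 0 := by
    have := F.psi_add (a - b) b
    rw [sub_add_cancel, hab] at this
    exact right_eq_add.1 this
  exact sub_eq_zero.1 (F.psi_eq_zero _ _ (fun r => Finset.le_sup (f := fun r => ((a - b) r).natDegree)
    (Finset.mem_univ r)) h)

omit [IsAlgClosed k] in
lemma psi_surjective : Function.Surjective F.psi := fun p => by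
  obtain ⟨a, -, ha⟩ := F.exists_psi_eq (p : K[X]).natDegree p fun m hm => coeff_eq_zero_of_natDegree_lt hm
  exact ⟨a, ha⟩

end Frame

end SectGorLib
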